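import Groth.Agent.Lib.SubtrDesc12.Spec

/-!
# Translating the lifting properties into algebra, chart by chart
-/

set_option autoImplicit false
set_option linter.style.haveILetI false

universe u

open scoped TensorProduct
open IsLocalRing CategoryTheory CategoryTheory.Limits AlgebraicGeometry

namespace Groth.Agent.SubtrDesc12

theorem good_of_isPullback {V R B : Type u} [CommRing V] [IsDomain V] [ValuationRing V] [CommRing R]
    [CommRing B] [Algebra R B] [Algebra R V] {Z : Scheme.{u}} {a : Z ⟶ Spec (CommRingCat.of B)}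
    {b : Z ⟶ Spec (CommRingCat.of V)}
    (h : IsPullback a b (Spec.map (CommRingCat.ofHom (algebraMap R B)))
      (Spec.map (CommRingCat.ofHom (algebraMap R V)))) :
    (GenO b ↔ GoodO R B V) ∧ (GenS b ↔ GoodS R B V) := by
  have h' := FlatH4.isPullback_SpecMap_of_algEquiv (R := R) (A := V) (B₀ := B) (B := V ⊗[R] B)
    AlgEquiv.refl
  exact ⟨(genO_pullback_iff h h').trans (genO_spec_iff _),
    (genS_pullback_iff h h').trans (genS_spec_iff _)⟩

set_option backward.isDefEq.respectTransparency false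

/-- A finitely presented scheme over an affine base is covered by finitely many charts defined over
Noetherian rings, and the lifting properties are read off on the charts. -/
theorem exists_charts {A : CommRingCat.{u}} {X : Scheme.{u}} (f : X ⟶ Spec A)
    [LocallyOfFinitePresentation f] [QuasiCompact f] :
    ∃ (L : Type u) (_ : Finite L) (R B : L → Type u) (_ : ∀ l, CommRing (R l))
      (_ : ∀ l, CommRing (B l)) (_ : ∀ l, Algebra (R l) (B l)) (ρ : ∀ l, R l →+* A),
      (∀ l, IsNoetherianRing (R l)) ∧ (∀ l, Algebra.FiniteType (R l) (B l)) ∧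
        ∀ (V : Type u) [CommRing V] [IsDomain V] [ValuationRing V] [∀ l, Algebra (R l) V]
          (σ : A →+* V), (∀ l, algebraMap (R l) V = σ.comp (ρ l)) →
          (GenO (pullback.snd f (Spec.map (CommRingCat.ofHom σ : A ⟶ CommRingCat.of V))) ↔
              ∀ l, GoodO (R l) (B l) V) ∧
            (GenS (pullback.snd f (Spec.map (CommRingCat.ofHom σ : A ⟶ CommRingCat.of V))) ↔
              ∃ l, GoodS (R l) (B l) V) := by
  haveI : CompactSpace X := QuasiCompact.compactSpace_of_compactSpace f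
  let 𝒰 := X.affineCover.finiteSubcover
  haveI : ∀ l, IsAffine (𝒰.X l) := fun l => inferInstanceAs (IsAffine (X.affineCover.X _))
  let k : ∀ l, Spec Γ(𝒰.X l, ⊤) ⟶ X := fun l => (𝒰.X l).isoSpec.inv ≫ 𝒰.f l
  let φ : ∀ l, A ⟶ Γ(𝒰.X l, ⊤) := fun l => Spec.preimage (k l ≫ f)
  have hφ : ∀ l, Spec.map (φ l) = k l ≫ f := fun l => Spec.map_preimage _
  have hfp : ∀ l, (φ l).hom.FinitePresentation := fun l => by
    apply (HasRingHomProperty.Spec_iff (P := @LocallyOfFinitePresentation)).mp
    rw [hφ]
    infer_instance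
  have happ : ∀ l, letI := (φ l).hom.toAlgebra
      ∃ (R B : Type u) (_ : CommRing R) (_ : CommRing B) (_ : Algebra R A) (_ : Algebra R B),
        Algebra.FiniteType ℤ R ∧ Algebra.FinitePresentation R B ∧
          Nonempty (A ⊗[R] B ≃ₐ[A] Γ(𝒰.X l, ⊤)) := fun l => by
    letI := (φ l).hom.toAlgebra
    haveI : Algebra.FinitePresentation A Γ(𝒰.X l, ⊤) := hfp l
    exact FlatH4.exists_approx A Γ(𝒰.X l, ⊤)
  choose R B iR iB iRA iRB hR hB he using happ
  have hsq : ∀ l, ∃ g, IsPullback g (Spec.map (φ l))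
      (Spec.map (CommRingCat.ofHom (algebraMap (R l) (B l))))
      (Spec.map (CommRingCat.ofHom (@algebraMap (R l) A _ _ (iRA l)))) := fun l => by
    letI := (φ l).hom.toAlgebra
    exact ⟨_, FlatH4.isPullback_SpecMap_of_algEquiv (he l).some⟩
  refine ⟨𝒰.I₀, inferInstance, R, B, iR, iB, iRB, fun l => @algebraMap (R l) A _ _ (iRA l),
    fun l => @Algebra.FiniteType.isNoetherianRing ℤ (R l) _ _ _ (hR l) _,
    fun l => @Algebra.FiniteType.of_finitePresentation _ _ _ _ _ (hB l), ?_⟩
  intro V _ _ _ iV σ hσ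
  let x : Spec (CommRingCat.of V) ⟶ Spec A := Spec.map (CommRingCat.ofHom σ)
  let j : ∀ l, pullback (k l) (pullback.fst f x) ⟶ pullback f x := fun l => pullback.snd _ _
  have hj : ∀ z : (pullback f x : Scheme.{u}), ∃ l, z ∈ Set.range (j l) := fun z => by
    obtain ⟨l, w, hw⟩ : ∃ l, pullback.fst f x z ∈ Set.range (𝒰.f l) :=
      ⟨_, 𝒰.covers (pullback.fst f x z)⟩
    obtain ⟨v, -, hv⟩ := Scheme.Pullback.exists_preimage_pullback (f := k l)
      (g := pullback.fst f x) ((𝒰.X l).isoSpec.hom w) z (by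
        rw [← Scheme.Hom.comp_apply, show (𝒰.X l).isoSpec.hom ≫ k l = 𝒰.f l from
          Iso.hom_inv_id_assoc _ _]
        exact hw)
    exact ⟨l, v, hv⟩
  have hgood : ∀ l, (GenO (j l ≫ pullback.snd f x) ↔ GoodO (R l) (B l) V) ∧
      (GenS (j l ≫ pullback.snd f x) ↔ GoodS (R l) (B l) V) := fun l => by
    obtain ⟨g, hg⟩ := hsq l
    have h1 := (IsPullback.of_hasPullback (k l) (pullback.fst f x)).paste_vert
      (IsPullback.of_hasPullback f x)
    rw [← hφ l] at h1
    have h2 := h1.paste_horiz hg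
    rw [← Spec.map_comp, ← CommRingCat.ofHom_comp, ← hσ l] at h2
    exact good_of_isPullback h2
  exact ⟨(genO_cover_iff j hj _).trans (forall_congr' fun l => (hgood l).1),
    (genS_cover_iff j hj _).trans (exists_congr fun l => (hgood l).2)⟩

end Groth.Agent.SubtrDesc12
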