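import Mathlib.CategoryTheory.Presentable.Directed
import Groth.Agent.Lib.SubtrDesc12.Chart
import Groth.Agent.Lib.Descend.Stage

/-!
# Descent of universal openness and universal S-subtrusiveness along limits

If at every stage some valuation ring violates the lifting property, the ultraproduct of these
valuation rings violates it at the limit.
-/

set_option autoImplicit false
set_option linter.style.haveILetI false
set_option backward.isDefEq.respectTransparency false

universe u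

open scoped TensorProduct
open IsLocalRing Filter CategoryTheory CategoryTheory.Limits AlgebraicGeometry

namespace Groth.Agent.SubtrDesc12

section Transfer

variable {X₀ Y₀ : Scheme.{u}} (f₀ : X₀ ⟶ Y₀) [LocallyOfFinitePresentation f₀] [QuasiCompact f₀]
  {ι : Type u} (U : Ultrafilter ι) (V : ι → Type u) [∀ i, CommRing (V i)] [∀ i, IsDomain (V i)]
  [∀ i, ValuationRing (V i)] {A : CommRingCat.{u}} (y : Spec A ⟶ Y₀) (σ : ∀ i, A →+* V i)

/-- The map to the ultraproduct induced by a family of maps. -/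
def ultraMap : A →+* Ultra U V := (Ideal.Quotient.mk (null U V)).comp (RingHom.pi σ)

omit [LocallyOfFinitePresentation f₀] [QuasiCompact f₀] in
theorem isPullback_affine {W : CommRingCat.{u}} (g : Spec W ⟶ Spec A) :
    IsPullback (pullback.fst (pullback.snd f₀ y) g ≫ pullback.fst f₀ y)
      (pullback.snd (pullback.snd f₀ y) g) f₀ (g ≫ y) :=
  (IsPullback.of_hasPullback _ g).paste_horiz (IsPullback.of_hasPullback f₀ y)

theorem eventually_genO
    (h : GenO (pullback.snd f₀ (Spec.map (CommRingCat.ofHom (ultraMap U V σ) : A ⟶ CommRingCat.of (Ultra U V)) ≫ y))) :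
    ∀ᶠ i in (U : Filter ι),
      GenO (pullback.snd f₀ (Spec.map (CommRingCat.ofHom (σ i) : A ⟶ CommRingCat.of (V i)) ≫ y)) := by
  obtain ⟨L, _, R, B, _, _, _, ρ, hR, hB, hchart⟩ := exists_charts (pullback.snd f₀ y)
  letI : ∀ l i, Algebra (R l) (V i) := fun l i => ((σ i).comp (ρ l)).toAlgebra
  rw [genO_pullback_iff (IsPullback.of_hasPullback _ _) (isPullback_affine f₀ y _),
    (hchart (Ultra U V) (ultraMap U V σ) (fun l => RingHom.ext fun r => rfl)).1] at h
  have hall : ∀ᶠ i in (U : Filter ι), ∀ l, GoodO (R l) (B l) (V i) :=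
    eventually_all.2 fun l => by
      haveI := hR l
      haveI := hB l
      exact good_ultraO U V (h l)
  filter_upwards [hall] with i hi
  rw [genO_pullback_iff (IsPullback.of_hasPullback _ _) (isPullback_affine f₀ y _),
    (hchart (V i) (σ i) (fun l => rfl)).1]
  exact hi

theorem eventually_genS
    (h : GenS (pullback.snd f₀ (Spec.map (CommRingCat.ofHom (ultraMap U V σ) : A ⟶ CommRingCat.of (Ultra U V)) ≫ y))) :
    ∀ᶠ i in (U : Filter ι),
      GenS (pullback.snd f₀ (Spec.map (CommRingCat.ofHom (σ i) : A ⟶ CommRingCat.of (V i)) ≫ y)) := by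
  obtain ⟨L, _, R, B, _, _, _, ρ, hR, hB, hchart⟩ := exists_charts (pullback.snd f₀ y)
  letI : ∀ l i, Algebra (R l) (V i) := fun l i => ((σ i).comp (ρ l)).toAlgebra
  rw [genS_pullback_iff (IsPullback.of_hasPullback _ _) (isPullback_affine f₀ y _),
    (hchart (Ultra U V) (ultraMap U V σ) (fun l => RingHom.ext fun r => rfl)).2] at h
  obtain ⟨l, hl⟩ := h
  haveI := hR l
  haveI := hB l
  filter_upwards [good_ultraS U V hl] with i hi
  rw [genS_pullback_iff (IsPullback.of_hasPullback _ _) (isPullback_affine f₀ y _),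
    (hchart (V i) (σ i) (fun l => rfl)).2]
  exact ⟨l, hi⟩

end Transfer

section Lim

variable {X X' : Scheme.{u}} {W : X.Opens} (hW : IsAffineOpen W) {W' : X'.Opens}
  (hW' : IsAffineOpen W')

/-- The ring map of a morphism from an affine scheme into an affine open. -/
noncomputable def liftHom {T : CommRingCat.{u}} (x : Spec T ⟶ X)
    (h : Set.range x ⊆ (W : Set X)) : Γ(X, W) ⟶ T :=
  Spec.preimage (IsOpenImmersion.lift hW.fromSpec x (by rw [hW.range_fromSpec]; exact h))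

theorem map_liftHom {T : CommRingCat.{u}} (x : Spec T ⟶ X) (h : Set.range x ⊆ (W : Set X)) :
    Spec.map (liftHom hW x h) ≫ hW.fromSpec = x := by
  rw [liftHom, Spec.map_preimage, IsOpenImmersion.lift_fac]

theorem appLE_liftHom {T : CommRingCat.{u}} (m : X ⟶ X') (hm : W ≤ m ⁻¹ᵁ W') {x : Spec T ⟶ X}
    {x' : Spec T ⟶ X'} (h : Set.range x ⊆ (W : Set X)) (h' : Set.range x' ⊆ (W' : Set X'))
    (hx : x ≫ m = x') : m.appLE W' W hm ≫ liftHom hW x h = liftHom hW' x' h' := by
  refine Spec.map_injective ?_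
  rw [← cancel_mono hW'.fromSpec, Spec.map_comp, Category.assoc,
    IsAffineOpen.SpecMap_appLE_fromSpec m hW' hW hm, ← Category.assoc, map_liftHom, map_liftHom, hx]

variable {ι : Type u} (U : Ultrafilter ι) (V : ι → Type u) [∀ i, CommRing (V i)] (P : ι → Prop)
  (hP : ∀ᶠ i in (U : Filter ι), P i)

open scoped Classical in
/-- The ring map to the ultraproduct given by an almost everywhere defined family. -/
noncomputable def ultraHom {A : CommRingCat.{u}} (φ : ∀ i, P i → (A →+* V i)) : A →+* Ultra U V where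
  toFun a := Ideal.Quotient.mk _ fun i => if h : P i then φ i h a else 0
  map_one' := by
    rw [← map_one (Ideal.Quotient.mk (null U V)), Ideal.Quotient.mk_eq_mk_iff_sub_mem, mem_null]
    filter_upwards [hP] with i hi
    simp [hi]
  map_mul' a b := by
    rw [← map_mul, Ideal.Quotient.mk_eq_mk_iff_sub_mem, mem_null]
    filter_upwards [hP] with i hi
    simp [hi]
  map_zero' := by
    rw [Ideal.Quotient.eq_zero_iff_mem, mem_null]
    filter_upwards [hP] with i hi
    simp [hi]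
  map_add' a b := by
    rw [← map_add, Ideal.Quotient.mk_eq_mk_iff_sub_mem, mem_null]
    filter_upwards [hP] with i hi
    simp [hi]

variable (x : ∀ i, P i → (Spec (CommRingCat.of (V i)) ⟶ X))
  (hx : ∀ i h, Set.range (x i h) ⊆ (W : Set X))

/-- The limit along an ultrafilter of morphisms into an affine open. -/
noncomputable def ultraLim : Spec (CommRingCat.of (Ultra U V)) ⟶ X :=
  Spec.map (CommRingCat.ofHom (ultraHom U V P hP fun i h => (liftHom hW (x i h) (hx i h)).hom) :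
    Γ(X, W) ⟶ CommRingCat.of (Ultra U V)) ≫ hW.fromSpec

theorem ultraLim_comp (m : X ⟶ X') (hm : W ≤ m ⁻¹ᵁ W') (P' : ι → Prop)
    (hP' : ∀ᶠ i in (U : Filter ι), P' i) (x' : ∀ i, P' i → (Spec (CommRingCat.of (V i)) ⟶ X'))
    (hx' : ∀ i h, Set.range (x' i h) ⊆ (W' : Set X'))
    (hc : ∀ i (h : P i) (h' : P' i), x i h ≫ m = x' i h') :
    ultraLim hW U V P hP x hx ≫ m = ultraLim hW' U V P' hP' x' hx' := by
  rw [ultraLim, ultraLim, Category.assoc, ← IsAffineOpen.SpecMap_appLE_fromSpec m hW' hW hm,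
    ← Category.assoc, ← Spec.map_comp]
  congr 2
  ext a
  show ultraHom U V P hP _ ((m.appLE W' W hm).hom a) = ultraHom U V P' hP' _ a
  simp only [ultraHom, RingHom.coe_mk, MonoidHom.coe_mk, OneHom.coe_mk]
  rw [Ideal.Quotient.mk_eq_mk_iff_sub_mem, mem_null]
  filter_upwards [hP, hP'] with i hi hi'
  simp only [Pi.sub_apply, dif_pos hi, dif_pos hi', sub_eq_zero]
  exact congr($(appLE_liftHom hW hW' m hm (hx i hi) (hx' i hi') (hc i hi hi')).hom a)

theorem ultraLim_total (x : ∀ i, (Spec (CommRingCat.of (V i)) ⟶ X))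
    (hx : ∀ i, Set.range (x i) ⊆ (W : Set X)) :
    ultraLim hW U V (fun _ => True) (Eventually.of_forall fun _ => trivial) (fun i _ => x i)
        (fun i _ => hx i) =
      Spec.map (CommRingCat.ofHom (ultraMap U V fun i => (liftHom hW (x i) (hx i)).hom) :
        Γ(X, W) ⟶ CommRingCat.of (Ultra U V)) ≫ hW.fromSpec := by
  rw [ultraLim]
  congr 2
  ext a
  show Ideal.Quotient.mk _ _ = Ideal.Quotient.mk _ _
  congr 1
  funext i
  simp

end Lim

/-- A property of valuation ring valued points that passes to almost all factors of ultraproducts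
holds at a stage as soon as it holds at the limit. -/
theorem exists_stage_of_ultra {J : Type u} [SmallCategory J] [IsCofiltered J] (E : J ⥤ Scheme.{u})
    {Y₀ : Scheme.{u}} [CompactSpace Y₀] (t : E ⟶ (Functor.const J).obj Y₀)
    [∀ k, IsAffineHom (t.app k)] (e : Cone E) (he : IsLimit e) (q : e.pt ⟶ Y₀)
    (hq : ∀ k, e.π.app k ≫ t.app k = q)
    (G : ∀ (W : Type u) [CommRing W] [IsDomain W] [ValuationRing W],
      (Spec (CommRingCat.of W) ⟶ Y₀) → Prop)
    (hultra : ∀ (ι : Type u) (U : Ultrafilter ι) (V : ι → Type u) [∀ i, CommRing (V i)]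
      [∀ i, IsDomain (V i)] [∀ i, ValuationRing (V i)] (A : CommRingCat.{u}) (y : Spec A ⟶ Y₀)
      (σ : ∀ i, A →+* V i),
      G (Ultra U V) (Spec.map (CommRingCat.ofHom (ultraMap U V σ) : A ⟶ CommRingCat.of (Ultra U V)) ≫ y) →
      ∀ᶠ i in (U : Filter ι),
        G (V i) (Spec.map (CommRingCat.ofHom (σ i) : A ⟶ CommRingCat.of (V i)) ≫ y))
    (hlim : ∀ (W : Type u) [CommRing W] [IsDomain W] [ValuationRing W]
      (x : Spec (CommRingCat.of W) ⟶ e.pt), G W (x ≫ q)) :
    ∃ k, ∀ (W : Type u) [CommRing W] [IsDomain W] [ValuationRing W]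
      (x : Spec (CommRingCat.of W) ⟶ E.obj k), G W (x ≫ t.app k) := by
  classical
  by_contra hcon
  push Not at hcon
  obtain ⟨α, _, _, _, F, hF⟩ := IsFiltered.exists_directed Jᵒᵖ
  haveI := hF
  have hi : IsLimit (e.whisker F.leftOp) :=
    (Functor.Initial.isLimitWhiskerEquiv F.leftOp e).symm he
  choose W₀ iC iD iV x hbad using fun a : α => hcon (F.obj a).unop
  have hsys : ∀ (a b : α) (h : b ≤ a), E.map (F.map (homOfLE h)).unop ≫ t.app (F.obj b).unop =
      t.app (F.obj a).unop := fun a b h => Descend.t_nat E t _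
  let 𝒪 := Y₀.affineCover.finiteSubcover
  let 𝒰 : Ultrafilter α := Ultrafilter.of atTop
  let y : ∀ a, Y₀ := fun a => (x a ≫ t.app (F.obj a).unop) (closedPoint (W₀ a))
  obtain ⟨l, hl⟩ : ∃ l, ∀ᶠ a in (𝒰 : Filter α), y a ∈ (𝒪.f l).opensRange :=
    Ultrafilter.eventually_exists_iff.1
      (Eventually.of_forall fun a => ⟨_, 𝒪.covers (y a)⟩)
  let Uo : Y₀.Opens := (𝒪.f l).opensRange
  haveI : IsAffine (𝒪.X l) := inferInstanceAs (IsAffine (Y₀.affineCover.X _))
  have hUo : IsAffineOpen Uo := isAffineOpen_opensRange (𝒪.f l)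
  let ι : Type u := {a : α // y a ∈ Uo}
  let 𝒱 : Ultrafilter ι := 𝒰.comap Subtype.val_injective (by rw [Subtype.range_coe_subtype]; exact hl)
  letI : ∀ i : ι, CommRing (W₀ i.1) := fun i => iC i.1
  haveI : ∀ i : ι, IsDomain (W₀ i.1) := fun i => iD i.1
  haveI : ∀ i : ι, ValuationRing (W₀ i.1) := fun i => iV i.1
  have hxU : ∀ i : ι, Set.range (x i.1 ≫ t.app (F.obj i.1).unop) ⊆ (Uo : Set Y₀) := by
    rintro i _ ⟨p, rfl⟩
    exact ((IsLocalRing.specializes_closedPoint p).map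
      (x i.1 ≫ t.app (F.obj i.1).unop).continuous).mem_open Uo.isOpen i.2
  let Wb : ∀ b : α, (E.obj (F.obj b).unop).Opens := fun b => t.app (F.obj b).unop ⁻¹ᵁ Uo
  have hWb : ∀ b, IsAffineOpen (Wb b) := fun b => hUo.preimage (t.app (F.obj b).unop)
  have hev : ∀ b : α, ∀ᶠ i : ι in (𝒱 : Filter ι), b ≤ i.1 := fun b =>
    (Filter.tendsto_comap (f := (Subtype.val : ι → α))).eventually
      (Ultrafilter.of_le (atTop : Filter α) (eventually_ge_atTop b))
  let xb : ∀ (b : α) (i : ι), b ≤ i.1 → (Spec (CommRingCat.of (W₀ i.1)) ⟶ E.obj (F.obj b).unop) :=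
    fun b i h => x i.1 ≫ E.map (F.map (homOfLE h)).unop
  have hxbt : ∀ b i (h : b ≤ (i : ι).1), xb b i h ≫ t.app (F.obj b).unop =
      x i.1 ≫ t.app (F.obj i.1).unop := fun b i h => by
    rw [Category.assoc, hsys]
  have hxb : ∀ b i h, Set.range (xb b i h) ⊆ (Wb b : Set (E.obj (F.obj b).unop)) := by
    rintro b i h _ ⟨p, rfl⟩
    show t.app (F.obj b).unop (xb b i h p) ∈ Uo
    rw [← Scheme.Hom.comp_apply, hxbt]
    exact hxU i ⟨p, rfl⟩
  let c : Cone (F.leftOp ⋙ E) :=
    { pt := Spec (CommRingCat.of (Ultra 𝒱 fun i => W₀ i.1))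
      π :=
        { app := fun b => ultraLim (hWb b.unop) 𝒱 (fun i => W₀ i.1) _ (hev b.unop) (xb b.unop)
            (hxb b.unop)
          naturality := fun b b' g => by
            dsimp
            rw [Category.id_comp, eq_comm]
            refine ultraLim_comp _ _ _ _ _ _ _ _ _ ?_ _ _ _ _ fun i h h' => ?_
            · show _ ≤ E.map _ ⁻¹ᵁ (t.app _ ⁻¹ᵁ Uo)
              rw [← Scheme.Hom.comp_preimage, Descend.t_nat E t]
            · show (x i.1 ≫ _) ≫ _ = x i.1 ≫ _
              rw [Category.assoc, ← E.map_comp]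
              congr 2
              rw [← unop_comp, ← F.map_comp]
              rfl } }
  let g := hi.lift c
  let σ : ∀ i : ι, Γ(Y₀, Uo) →+* W₀ i.1 := fun i =>
    (liftHom hUo (x i.1 ≫ t.app (F.obj i.1).unop) (hxU i)).hom
  have hgq : g ≫ q = Spec.map (CommRingCat.ofHom (ultraMap 𝒱 (fun i => W₀ i.1) σ) :
      Γ(Y₀, Uo) ⟶ CommRingCat.of (Ultra 𝒱 fun i => W₀ i.1)) ≫ hUo.fromSpec := by
    obtain ⟨b⟩ := (inferInstance : Nonempty α)
    rw [← hq (F.obj b).unop, ← Category.assoc,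
      show g ≫ e.π.app (F.obj b).unop = _ from hi.fac c (Opposite.op b),
      ← ultraLim_total hUo 𝒱 (fun i => W₀ i.1) (fun i => x i.1 ≫ t.app (F.obj i.1).unop) hxU]
    exact ultraLim_comp _ _ _ _ _ _ _ _ _ le_rfl _ _ _ _ fun i h _ => hxbt b i h
  have hG := hlim _ g
  rw [hgq] at hG
  obtain ⟨i, hi'⟩ := (hultra ι 𝒱 (fun i => W₀ i.1) Γ(Y₀, Uo) hUo.fromSpec σ hG).exists
  rw [show Spec.map (CommRingCat.ofHom (σ i) : Γ(Y₀, Uo) ⟶ CommRingCat.of (W₀ i.1)) ≫ hUo.fromSpec =
    x i.1 ≫ t.app (F.obj i.1).unop from map_liftHom hUo _ (hxU i)] at hi'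
  exact hbad i.1 hi'

variable {I : Type u} [SmallCategory I] [IsCofiltered I] {D : I ⥤ Scheme.{u}} {c : Cone D}

theorem descend_genO (hc : IsLimit c) [∀ (i j : I) (a : i ⟶ j), IsAffineHom (D.map a)] (i₀ : I)
    {X₀ Y₀ : Scheme.{u}} (f₀ : X₀ ⟶ Y₀) (g₀ : Y₀ ⟶ D.obj i₀) [CompactSpace Y₀]
    [LocallyOfFinitePresentation f₀] [QuasiCompact f₀]
    {X Y : Scheme.{u}} (f : X ⟶ Y) (g : Y ⟶ c.pt) (qY : Y ⟶ Y₀) (qX : X ⟶ X₀)
    (hY : IsPullback qY g g₀ (c.π.app i₀)) (hX : IsPullback qX f f₀ qY)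
    (hf : UniversallyOpen f) :
    ∃ (i : I) (φ : i ⟶ i₀) (Xi Yi : Scheme.{u}) (fi : Xi ⟶ Yi) (gi : Yi ⟶ D.obj i) (pY : Yi ⟶ Y₀)
      (pX : Xi ⟶ X₀), IsPullback pY gi g₀ (D.map φ) ∧ IsPullback pX fi f₀ pY ∧ UniversallyOpen fi := by
  refine Descend.exists_stage @UniversallyOpen @UniversallyOpen hc f₀ g₀ f g qY qX hY hX hf ?_
  intro E t e _ q P p r he hq hP hr
  haveI : UniversallyOpen r := hr
  obtain ⟨k, hk⟩ := exists_stage_of_ultra E t e he q hq
    (fun W _ _ _ x => GenO (pullback.snd f₀ x))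
    (fun ι U V _ _ _ A y σ h => eventually_genO f₀ U V y σ h)
    (fun W _ _ _ x => (genO_pullback_iff (IsPullback.of_hasPullback f₀ (x ≫ q))
      ((IsPullback.of_hasPullback r x).paste_horiz hP)).2
      (genO_of_universallyOpen (IsPullback.of_hasPullback r x)))
  exact ⟨k, universallyOpen_of_genO fun W _ _ _ x =>
    (genO_pullback_iff ((IsPullback.of_hasPullback _ x).paste_horiz
      (IsPullback.of_hasPullback f₀ (t.app k))) (IsPullback.of_hasPullback f₀ (x ≫ t.app k))).2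
      (hk W x)⟩

theorem descend_genS (hc : IsLimit c) [∀ (i j : I) (a : i ⟶ j), IsAffineHom (D.map a)] (i₀ : I)
    {X₀ Y₀ : Scheme.{u}} (f₀ : X₀ ⟶ Y₀) (g₀ : Y₀ ⟶ D.obj i₀) [CompactSpace Y₀]
    [LocallyOfFinitePresentation f₀] [QuasiCompact f₀]
    {X Y : Scheme.{u}} (f : X ⟶ Y) (g : Y ⟶ c.pt) (qY : Y ⟶ Y₀) (qX : X ⟶ X₀)
    (hY : IsPullback qY g g₀ (c.π.app i₀)) (hX : IsPullback qX f f₀ qY)
    (hf : Subtr.UnivSSubtrusive f) :
    ∃ (i : I) (φ : i ⟶ i₀) (Xi Yi : Scheme.{u}) (fi : Xi ⟶ Yi) (gi : Yi ⟶ D.obj i) (pY : Yi ⟶ Y₀)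
      (pX : Xi ⟶ X₀), IsPullback pY gi g₀ (D.map φ) ∧ IsPullback pX fi f₀ pY ∧
        Subtr.UnivSSubtrusive fi := by
  refine Descend.exists_stage Subtr.UnivSSubtrusive Subtr.UnivSSubtrusive hc f₀ g₀ f g qY qX hY hX hf ?_
  intro E t e _ q P p r he hq hP hr
  obtain ⟨k, hk⟩ := exists_stage_of_ultra E t e he q hq
    (fun W _ _ _ x => GenS (pullback.snd f₀ x))
    (fun ι U V _ _ _ A y σ h => eventually_genS f₀ U V y σ h)
    (fun W _ _ _ x => (genS_pullback_iff (IsPullback.of_hasPullback f₀ (x ≫ q))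
      ((IsPullback.of_hasPullback r x).paste_horiz hP)).2
      (genS_of_univSSubtrusive hr (IsPullback.of_hasPullback r x)))
  exact ⟨k, univSSubtrusive_of_genS fun W _ _ _ x =>
    (genS_pullback_iff ((IsPullback.of_hasPullback _ x).paste_horiz
      (IsPullback.of_hasPullback f₀ (t.app k))) (IsPullback.of_hasPullback f₀ (x ≫ t.app k))).2
      (hk W x)⟩

end Groth.Agent.SubtrDesc12
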