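import Mathlib.RingTheory.Spectrum.Prime.Chevalley
import Mathlib.RingTheory.Flat.TorsionFree
import Mathlib.RingTheory.Flat.FaithfullyFlat.Algebra
import Mathlib.RingTheory.TensorProduct.DirectLimitFG
import Mathlib.RingTheory.Nilpotent.Lemmas
import Mathlib.Order.Filter.Ultrafilter.Basic
import Groth.Agent.Lib.FlatH4.FlatDescent
import Groth.Agent.Lib.GlobalFP7.Prufer
import Groth.Agent.Lib.ValDiv15.Global

/-!
# Lifting of generalisations over valuation rings passes between an ultraproduct and its factors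

For a finite type algebra `B` over a Noetherian ring `R` and valuation rings `V i` over `R`, the
conditions "torsion of `V ⊗ B` is nilpotent" and "some prime over the closed point of `V` generalises
to a prime over the generic point" hold for almost all `V i` once they hold for the ultraproduct.
-/

set_option autoImplicit false
set_option linter.style.haveILetI false

universe u

open scoped TensorProduct
open IsLocalRing Filter

namespace Groth.Agent.SubtrDesc12

variable (R B : Type u) [CommRing R] [CommRing B] [Algebra R B]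

/-- Every element of `V ⊗ B` killed by a nonzero scalar is nilpotent. -/
def GoodO (V : Type u) [CommRing V] [Algebra R V] : Prop :=
  ∀ (a : V) (t : V ⊗[R] B), a ≠ 0 → a • t = 0 → IsNilpotent t

/-- Some prime of `V ⊗ B` over the closed point contains one over the generic point. -/
def GoodS (V : Type u) [CommRing V] [IsLocalRing V] [Algebra R V] : Prop :=
  ∃ P Q : Ideal (V ⊗[R] B), P.IsPrime ∧ Q.IsPrime ∧ Q ≤ P ∧
    P.comap (algebraMap V (V ⊗[R] B)) = maximalIdeal V ∧ Q.comap (algebraMap V (V ⊗[R] B)) = ⊥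

section Psi

variable (C V : Type u) [CommRing C] [CommRing V] [Algebra R C] [Algebra R V] [Algebra C V]
  [IsScalarTower R C V] (J : Ideal (C ⊗[R] B))

/-- The extension of scalars `C ⊗ B → V ⊗ B`. -/
noncomputable def rho : C ⊗[R] B →ₐ[R] V ⊗[R] B :=
  Algebra.TensorProduct.map (IsScalarTower.toAlgHom R C V) (AlgHom.id R B)

/-- The projection `V ⊗ B → V ⊗_C ((C ⊗ B) ⧸ J)`. -/
noncomputable def psi : V ⊗[R] B →ₐ[V] V ⊗[C] ((C ⊗[R] B) ⧸ J) :=
  (Algebra.TensorProduct.map (AlgHom.id V V) (Ideal.Quotient.mkₐ C J)).comp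
    (Algebra.TensorProduct.cancelBaseChange R C V V B).symm.toAlgHom

theorem psi_surjective : Function.Surjective (psi R B C V J) :=
  (Algebra.TensorProduct.map_surjective _ _ Function.surjective_id Ideal.Quotient.mk_surjective).comp
    (Algebra.TensorProduct.cancelBaseChange R C V V B).symm.surjective

theorem psi_ker : RingHom.ker (psi R B C V J) = J.map (rho R B C V) := by
  let e := Algebra.TensorProduct.cancelBaseChange R C V V B
  have hk : RingHom.ker (Algebra.TensorProduct.map (AlgHom.id V V) (Ideal.Quotient.mkₐ C J)) =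
      J.map (Algebra.TensorProduct.includeRight (R := C) (A := V)).toRingHom := by
    rw [show RingHom.ker (Algebra.TensorProduct.map (AlgHom.id V V) (Ideal.Quotient.mkₐ C J)) =
        RingHom.ker (Algebra.TensorProduct.map (AlgHom.id C V) (Ideal.Quotient.mkₐ C J)) from rfl,
      Algebra.TensorProduct.lTensor_ker _ (Ideal.Quotient.mkₐ_surjective C J),
      show RingHom.ker (Ideal.Quotient.mkₐ C J) = J from Ideal.mk_ker]
    rfl
  have he : (e.toRingEquiv.toRingHom).comp
      (Algebra.TensorProduct.includeRight (R := C) (A := V) (B := C ⊗[R] B)).toRingHom =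
      (rho R B C V).toRingHom := by
    refine RingHom.ext fun x => ?_
    simp only [RingHom.coe_comp, Function.comp_apply]
    induction x using TensorProduct.induction_on with
    | zero => simp
    | tmul c b =>
      show e (1 ⊗ₜ (c ⊗ₜ b)) = _
      rw [Algebra.TensorProduct.cancelBaseChange_tmul]
      simp [rho, Algebra.smul_def]
    | add a b ha hb => simp only [map_add, ha, hb]
  have : RingHom.ker (psi R B C V J) = (J.map (Algebra.TensorProduct.includeRight (R := C) (A := V)).toRingHom).comap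
      e.symm.toRingEquiv.toRingHom := by
    rw [← hk]
    rfl
  rw [this, show J.map (rho R B C V) = J.map (rho R B C V).toRingHom from rfl, ← he, ← Ideal.map_map]
  exact Ideal.comap_symm (f := e.toRingEquiv)

theorem flat_psi_iff :
    Module.Flat V (V ⊗[C] ((C ⊗[R] B) ⧸ J)) ↔ Module.Flat V ((V ⊗[R] B) ⧸ J.map (rho R B C V)) := by
  let e : ((V ⊗[R] B) ⧸ J.map (rho R B C V)) ≃ₐ[V] V ⊗[C] ((C ⊗[R] B) ⧸ J) :=
    (Ideal.quotientEquivAlgOfEq V (psi_ker R B C V J).symm).trans
      (Ideal.quotientKerAlgEquivOfSurjective (psi_surjective R B C V J))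
  exact ⟨fun _ => Module.Flat.of_linearEquiv e.toLinearEquiv,
    fun _ => Module.Flat.of_linearEquiv e.symm.toLinearEquiv⟩

end Psi

section Model

theorem exists_fg_lift {W : Type u} [CommRing W] [Algebra R W] (x : W ⊗[R] B) :
    ∃ C : Subalgebra R W, C.FG ∧ ∃ u : C ⊗[R] B,
      Algebra.TensorProduct.map C.val (AlgHom.id R B) u = x := by
  induction x using TensorProduct.induction_on with
  | zero => exact ⟨⊥, Subalgebra.fg_bot, 0, map_zero _⟩
  | tmul a b =>
    exact ⟨Algebra.adjoin R {a}, ⟨{a}, by simp⟩,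
      (⟨a, Algebra.self_mem_adjoin_singleton R a⟩ : Algebra.adjoin R ({a} : Set W)) ⊗ₜ b, by simp⟩
  | add x y hx hy =>
    obtain ⟨C, hC, u, rfl⟩ := hx
    obtain ⟨D, hD, v, rfl⟩ := hy
    refine ⟨C ⊔ D, hC.sup hD,
      Algebra.TensorProduct.map (S := R) (Subalgebra.inclusion (le_sup_left : C ≤ C ⊔ D))
          (AlgHom.id R B) u +
        Algebra.TensorProduct.map (S := R) (Subalgebra.inclusion (le_sup_right : D ≤ C ⊔ D))
          (AlgHom.id R B) v, ?_⟩
    rw [map_add, ← AlgHom.comp_apply, ← AlgHom.comp_apply, ← Algebra.TensorProduct.map_comp,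
      ← Algebra.TensorProduct.map_comp]
    rfl

theorem exists_fg_lift_nilpotent {W : Type u} [CommRing W] [Algebra R W] (x : W ⊗[R] B) :
    ∃ C : Subalgebra R W, C.FG ∧ ∃ u : C ⊗[R] B,
      Algebra.TensorProduct.map C.val (AlgHom.id R B) u = x ∧ (IsNilpotent x → IsNilpotent u) := by
  obtain ⟨C, hC, u, rfl⟩ := exists_fg_lift R B x
  by_cases h : IsNilpotent (Algebra.TensorProduct.map C.val (AlgHom.id R B) u)
  · obtain ⟨n, hn⟩ := h
    rw [← map_pow] at hn
    obtain ⟨D, hCD, hD, hDu⟩ := TensorProduct.Algebra.eq_of_fg_of_subtype_eq hC (t := u ^ n)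
      (t' := (0 : C ⊗[R] B)) (by rw [map_zero]; exact hn)
    refine ⟨D, hD, Algebra.TensorProduct.map (Subalgebra.inclusion hCD) (AlgHom.id R B) u, ?_,
      fun _ => ⟨n, ?_⟩⟩
    · rw [← AlgHom.comp_apply, ← Algebra.TensorProduct.map_comp]
      rfl
    · rw [← map_pow]
      rw [map_zero] at hDu
      exact hDu
  · exact ⟨C, hC, u, rfl, fun h' => absurd h' h⟩

theorem exists_fg_lifts {W : Type u} [CommRing W] [Algebra R W] (s : Finset (W ⊗[R] B)) :
    ∃ C : Subalgebra R W, C.FG ∧ ∀ x ∈ s, ∃ u : C ⊗[R] B,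
      Algebra.TensorProduct.map C.val (AlgHom.id R B) u = x ∧ (IsNilpotent x → IsNilpotent u) := by
  classical
  induction s using Finset.induction with
  | empty => exact ⟨⊥, Subalgebra.fg_bot, fun x hx => absurd hx (Finset.notMem_empty x)⟩
  | @insert x s _ ih =>
    obtain ⟨C, hC, hs⟩ := ih
    obtain ⟨D, hD, v, rfl, hv⟩ := exists_fg_lift_nilpotent R B x
    refine ⟨D ⊔ C, hD.sup hC, fun y hy => ?_⟩
    rcases Finset.mem_insert.1 hy with rfl | hy
    · refine ⟨Algebra.TensorProduct.map (S := R)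
          (Subalgebra.inclusion (le_sup_left : D ≤ D ⊔ C)) (AlgHom.id R B) v, ?_,
        fun h => (hv h).map _⟩
      rw [← AlgHom.comp_apply, ← Algebra.TensorProduct.map_comp]
      rfl
    · obtain ⟨u, rfl, hu⟩ := hs y hy
      refine ⟨Algebra.TensorProduct.map (S := R)
          (Subalgebra.inclusion (le_sup_right : C ≤ D ⊔ C)) (AlgHom.id R B) u, ?_,
        fun h => (hu h).map _⟩
      rw [← AlgHom.comp_apply, ← Algebra.TensorProduct.map_comp]
      rfl

variable (W : Type u) [CommRing W] [IsDomain W] [Algebra R W]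

/-- The ideal of torsion elements. -/
def torIdeal : Ideal (W ⊗[R] B) where
  carrier := {t | ∃ a : W, a ≠ 0 ∧ a • t = 0}
  zero_mem' := ⟨1, one_ne_zero, smul_zero _⟩
  add_mem' := by
    rintro s t ⟨a, ha, has⟩ ⟨b, hb, hbt⟩
    exact ⟨a * b, mul_ne_zero ha hb, by
      rw [smul_add, mul_smul, smul_comm a b s, has, smul_zero, zero_add, mul_smul, hbt, smul_zero]⟩
  smul_mem' := by
    rintro c t ⟨a, ha, hat⟩
    exact ⟨a, ha, by rw [smul_comm, hat, smul_zero]⟩

theorem torsionFree_quot : Module.IsTorsionFree W ((W ⊗[R] B) ⧸ torIdeal R B W) := by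
  refine ⟨fun a ha x y h => ?_⟩
  obtain ⟨x, rfl⟩ := Ideal.Quotient.mk_surjective x
  obtain ⟨y, rfl⟩ := Ideal.Quotient.mk_surjective y
  have h' : Ideal.Quotient.mk (torIdeal R B W) (a • x) =
      Ideal.Quotient.mk (torIdeal R B W) (a • y) := h
  rw [Ideal.Quotient.mk_eq_mk_iff_sub_mem, ← smul_sub] at h'
  obtain ⟨b, hb, hb'⟩ := h'
  rw [Ideal.Quotient.mk_eq_mk_iff_sub_mem]
  exact ⟨b * a, mul_ne_zero hb ha.ne_zero, by rwa [mul_smul]⟩

/-- A model over a finitely generated algebra of the torsion-free quotient of `W ⊗ B`. -/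
theorem exists_model [ValuationRing W] [IsNoetherianRing R] [Algebra.FiniteType R B] :
    ∃ (C : Type u) (_ : CommRing C) (_ : Algebra R C) (f : C →ₐ[R] W) (J : Ideal (C ⊗[R] B)),
      Algebra.FinitePresentation R C ∧ Module.Flat C ((C ⊗[R] B) ⧸ J) ∧
        (∀ x ∈ J, Algebra.TensorProduct.map f (AlgHom.id R B) x ∈ torIdeal R B W) ∧
          (GoodO R B W → J ≤ nilradical (C ⊗[R] B)) := by
  classical
  haveI : Algebra.FinitePresentation R B := Algebra.FinitePresentation.of_finiteType.1 inferInstance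
  haveI := torsionFree_quot R B W
  haveI : Module.FinitePresentation (W ⊗[R] B) ((W ⊗[R] B) ⧸ torIdeal R B W) :=
    GlobalFP7.finitePresentation_of_torsionFree_prufer W
      (fun p _ => ValDiv15.valuationRing_localization p)
  have hfg : (torIdeal R B W).FG := by
    have h := Module.FinitePresentation.fg_ker (torIdeal R B W).mkQ (Submodule.mkQ_surjective _)
    rwa [Submodule.ker_mkQ] at h
  obtain ⟨s, hs⟩ := hfg
  obtain ⟨C₀, hC₀, hlift⟩ := exists_fg_lifts R B s
  choose v hv hvn using hlift
  haveI : Algebra.FiniteType R C₀ := (Subalgebra.fg_iff_finiteType C₀).1 hC₀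
  haveI : IsNoetherianRing C₀ := Algebra.FiniteType.isNoetherianRing R C₀
  let J₀ : Ideal (C₀ ⊗[R] B) := Ideal.span (Set.range fun x : s => v x.1 x.2)
  have hrho : rho R B C₀ W = Algebra.TensorProduct.map C₀.val (AlgHom.id R B) := rfl
  have hJ₀ : J₀.map (rho R B C₀ W) = torIdeal R B W := by
    have hs' : Ideal.span (s : Set (W ⊗[R] B)) = torIdeal R B W := hs
    rw [← hs', Ideal.map_span]
    congr 1
    ext x
    constructor
    · rintro ⟨_, ⟨⟨y, hy⟩, rfl⟩, rfl⟩
      rw [hrho, hv]
      exact hy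
    · exact fun hx => ⟨_, ⟨⟨x, hx⟩, rfl⟩, by rw [hrho]; exact hv x hx⟩
  haveI : Module.Flat W ((W ⊗[R] B) ⧸ torIdeal R B W) := by
    rw [Module.Flat.flat_iff_torsion_eq_bot_of_isBezout,
      ← Submodule.isTorsionFree_iff_torsion_eq_bot]
    infer_instance
  haveI : Module.Flat W (W ⊗[C₀] ((C₀ ⊗[R] B) ⧸ J₀)) := by
    rw [flat_psi_iff, hJ₀]
    infer_instance
  obtain ⟨C₁, hC₁, hflat⟩ :=
    FlatH4.exists_subalgebra_flat C₀ W ((C₀ ⊗[R] B) ⧸ J₀) ((C₀ ⊗[R] B) ⧸ J₀)
  have hflat₁ := hflat C₁ le_rfl hC₁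
  haveI : Algebra.FiniteType C₀ C₁ := (Subalgebra.fg_iff_finiteType C₁).1 hC₁
  haveI : Algebra.FiniteType R C₁ := Algebra.FiniteType.trans (R := R) (S := C₀) inferInstance inferInstance
  let f : C₁ →ₐ[R] W := C₁.val.restrictScalars R
  refine ⟨C₁, inferInstance, inferInstance, f, J₀.map (rho R B C₀ C₁),
    Algebra.FinitePresentation.of_finiteType.1 inferInstance, (flat_psi_iff R B C₀ C₁ J₀).1 hflat₁,
    fun x hx => ?_, fun hgood => ?_⟩
  · have h : (Algebra.TensorProduct.map f (AlgHom.id R B)).comp (rho R B C₀ C₁) = rho R B C₀ W := by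
      rw [rho, ← Algebra.TensorProduct.map_comp]
      rfl
    rw [← hJ₀, ← h]
    have := Ideal.mem_map_of_mem (Algebra.TensorProduct.map f (AlgHom.id R B)) hx
    rwa [Ideal.map_mapₐ] at this
  · rw [Ideal.map_le_iff_le_comap, Ideal.span_le]
    rintro _ ⟨⟨x, hx⟩, rfl⟩
    have hxT : x ∈ torIdeal R B W := by
      rw [← hs]
      exact Submodule.subset_span hx
    obtain ⟨a, ha, hax⟩ := hxT
    exact (hvn x hx (hgood a x ha hax)).map _

end Model

section Ultra

variable {ι : Type u} (U : Ultrafilter ι) (V : ι → Type u) [∀ i, CommRing (V i)]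

/-- The ideal of almost everywhere vanishing families. -/
def null : Ideal (∀ i, V i) where
  carrier := {a | ∀ᶠ i in (U : Filter ι), a i = 0}
  zero_mem' := Eventually.of_forall fun _ => rfl
  add_mem' := fun {a b} ha hb => by
    filter_upwards [ha, hb] with i hi hj
    simp [hi, hj]
  smul_mem' := fun c a ha => by
    filter_upwards [ha] with i hi
    simp [hi]

theorem mem_null {a : ∀ i, V i} : a ∈ null U V ↔ ∀ᶠ i in (U : Filter ι), a i = 0 := Iff.rfl

variable [∀ i, IsDomain (V i)]

instance null_isPrime : (null U V).IsPrime := by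
  refine ⟨fun h => ?_, fun {a b} h => ?_⟩
  · obtain ⟨i, hi⟩ := ((mem_null U V).1 ((Ideal.eq_top_iff_one _).1 h)).exists
    exact one_ne_zero hi
  · rw [mem_null] at h
    simp only [Pi.mul_apply, mul_eq_zero] at h
    exact (Ultrafilter.eventually_or.1 h).imp id id

/-- The ultraproduct of the rings `V i`. -/
abbrev Ultra : Type u := (∀ i, V i) ⧸ null U V

instance ultra_valuationRing [∀ i, ValuationRing (V i)] : ValuationRing (Ultra U V) where
  cond' x y := by
    classical
    obtain ⟨a, rfl⟩ := Ideal.Quotient.mk_surjective x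
    obtain ⟨b, rfl⟩ := Ideal.Quotient.mk_surjective y
    have hc : ∀ i, ∃ c : V i, a i * c = b i ∨ b i * c = a i := fun i => ValuationRing.cond _ _
    choose c hc using hc
    refine ⟨Ideal.Quotient.mk _ c, ?_⟩
    rw [← map_mul, ← map_mul]
    refine (Ultrafilter.eventually_or.1 (Eventually.of_forall hc :
      ∀ᶠ i in (U : Filter ι), a i * c i = b i ∨ b i * c i = a i)).imp (fun h => ?_) (fun h => ?_)
    all_goals
      rw [Ideal.Quotient.mk_eq_mk_iff_sub_mem, mem_null]
      filter_upwards [h] with i hi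
      simp [hi]

variable {R B} [∀ i, Algebra R (V i)]

omit [∀ i, IsDomain (V i)] in
/-- A map from a finitely presented algebra to the ultraproduct lifts to almost all factors. -/
theorem exists_lift {C : Type u} [CommRing C] [Algebra R C] [Algebra.FinitePresentation R C]
    (f : C →ₐ[R] Ultra U V) {a : C} (ha : IsUnit (f a)) :
    ∀ᶠ i in (U : Filter ι), ∃ g : C →ₐ[R] V i, IsUnit (g a) := by
  classical
  obtain ⟨n, p, hp, s, hs⟩ := (inferInstance : Algebra.FinitePresentation R C)
  choose x hx using fun k : Fin n => Ideal.Quotient.mk_surjective (f (p (MvPolynomial.X k)))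
  obtain ⟨P, rfl⟩ := hp a
  obtain ⟨b, hb⟩ := isUnit_iff_exists_inv.1 ha
  obtain ⟨b, rfl⟩ := Ideal.Quotient.mk_surjective b
  have heval : ∀ P : MvPolynomial (Fin n) R,
      f (p P) = Ideal.Quotient.mk (null U V) (MvPolynomial.aeval x P) := by
    intro P
    have : f.comp p = (Ideal.Quotient.mkₐ R (null U V)).comp (MvPolynomial.aeval x) := by
      apply MvPolynomial.algHom_ext
      intro k
      simp [hx k]
    exact congr($this P)
  have hev : ∀ (i : ι) (P : MvPolynomial (Fin n) R),
      MvPolynomial.aeval (fun k => x k i) P = MvPolynomial.aeval x P i := by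
    intro i P
    have : MvPolynomial.aeval (fun k => x k i) =
        (Pi.evalAlgHom R V i).comp (MvPolynomial.aeval x) := by
      apply MvPolynomial.algHom_ext
      intro k
      simp
    exact congr($this P)
  have h1 : ∀ᶠ i in (U : Filter ι), ∀ Q ∈ s, MvPolynomial.aeval x Q i = 0 := by
    rw [eventually_all_finset]
    intro Q hQ
    have hQ0 : p Q = 0 := by
      rw [← RingHom.mem_ker]
      change Q ∈ RingHom.ker p.toRingHom
      rw [← hs]
      exact Submodule.subset_span hQ
    have := heval Q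
    rw [hQ0, map_zero, eq_comm, Ideal.Quotient.eq_zero_iff_mem] at this
    exact this
  have h2 : ∀ᶠ i in (U : Filter ι), MvPolynomial.aeval x P i * b i = 1 := by
    rw [heval, ← map_mul, ← map_one (Ideal.Quotient.mk (null U V)),
      Ideal.Quotient.mk_eq_mk_iff_sub_mem, mem_null] at hb
    filter_upwards [hb] with i hi
    simpa [sub_eq_zero] using hi
  filter_upwards [h1, h2] with i hi1 hi2
  refine ⟨AlgHom.liftOfSurjective p hp (MvPolynomial.aeval fun k => x k i) ?_, ?_⟩
  · change RingHom.ker p.toRingHom ≤ _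
    rw [← hs, Ideal.span_le]
    intro Q hQ
    simp [RingHom.mem_ker, hev, hi1 Q hQ]
  · simp only [AlgHom.liftOfSurjective_apply, hev]
    exact IsUnit.of_mul_eq_one (b i) hi2

variable [IsNoetherianRing R] [Algebra.FiniteType R B] [∀ i, ValuationRing (V i)]

/-- Nilpotency of torsion passes from the ultraproduct to almost all factors. -/
theorem good_ultraO (h : GoodO R B (Ultra U V)) :
    ∀ᶠ i in (U : Filter ι), GoodO R B (V i) := by
  obtain ⟨C, _, _, f, J, hC, hflat, -, hnil⟩ := exists_model R B (Ultra U V)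
  filter_upwards [exists_lift U V f (a := 1) (by simp)] with i ⟨g, _⟩
  letI := g.toRingHom.toAlgebra
  haveI : IsScalarTower R C (V i) := IsScalarTower.of_algebraMap_eq fun r => (g.commutes r).symm
  intro a t ha hat
  have ht : psi R B C (V i) J t = 0 := by
    refine (smul_eq_zero_iff_right ha).1 ?_
    rw [← map_smul, hat, map_zero]
  have ht' : t ∈ RingHom.ker (psi R B C (V i) J) := ht
  rw [psi_ker] at ht'
  rw [← mem_nilradical]
  refine (Ideal.map_le_iff_le_comap.2 fun x hx => ?_ : J.map _ ≤ nilradical _) ht'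
  exact (mem_nilradical.1 (hnil h hx)).map _

/-- Existence of a generising pair of primes passes from the ultraproduct to almost all factors. -/
theorem good_ultraS (h : GoodS R B (Ultra U V)) :
    ∀ᶠ i in (U : Filter ι), GoodS R B (V i) := by
  obtain ⟨P, Q, hP, hQ, hQP, hPm, hQb⟩ := h
  obtain ⟨C, _, _, f, J, hC, hflat, htor, -⟩ := exists_model R B (Ultra U V)
  let A := (C ⊗[R] B) ⧸ J
  haveI : Algebra.FinitePresentation R B := Algebra.FinitePresentation.of_finiteType.1 inferInstance
  haveI : IsNoetherianRing C := Algebra.FiniteType.isNoetherianRing R C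
  haveI : Algebra.FinitePresentation C A := Algebra.FinitePresentation.of_finiteType.1 inferInstance
  let ρ := (Algebra.TensorProduct.map f (AlgHom.id R B)).toRingHom
  have hJP : J ≤ P.comap ρ := by
    intro x hx
    obtain ⟨a, ha, hax⟩ := htor x hx
    refine hQP ((hQ.mem_or_mem (?_ : algebraMap _ _ a * ρ x ∈ Q)).resolve_left fun h' => ha ?_)
    · rw [← Algebra.smul_def]
      exact (show a • ρ x = 0 from hax) ▸ Q.zero_mem
    · have : a ∈ Q.comap (algebraMap _ (Ultra U V ⊗[R] B)) := h'
      rwa [hQb, Ideal.mem_bot] at this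
  let q₀ : Ideal A := (P.comap ρ).map (Ideal.Quotient.mk J)
  haveI : q₀.IsPrime :=
    Ideal.map_isPrime_of_surjective Ideal.Quotient.mk_surjective (by rwa [Ideal.mk_ker])
  have hq₀ : q₀.comap (Ideal.Quotient.mk J) = P.comap ρ := by
    rw [Ideal.comap_map_of_surjective _ Ideal.Quotient.mk_surjective, ← RingHom.ker_eq_comap_bot,
      Ideal.mk_ker, sup_eq_left]
    exact hJP
  let p : PrimeSpectrum C := PrimeSpectrum.comap (algebraMap C A) ⟨q₀, inferInstance⟩
  have hp : p.asIdeal = (maximalIdeal (Ultra U V)).comap f.toRingHom := by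
    show q₀.comap (algebraMap C A) = _
    rw [show algebraMap C A = (Ideal.Quotient.mk J).comp (algebraMap C (C ⊗[R] B)) from rfl,
      ← Ideal.comap_comap, hq₀, ← hPm, Ideal.comap_comap, Ideal.comap_comap]
    congr 1
  obtain ⟨_, ⟨a, rfl⟩, hpa, hasub⟩ :=
    PrimeSpectrum.isTopologicalBasis_basic_opens.exists_subset_of_mem_open
      (Set.mem_range_self (⟨q₀, inferInstance⟩ : PrimeSpectrum A))
      (PrimeSpectrum.isOpenMap_comap_of_hasGoingDown_of_finitePresentation (R := C) (S := A)).isOpen_range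
  have hua : IsUnit (f a) := by
    by_contra hna
    refine hpa ?_
    show a ∈ p.asIdeal
    rw [hp]
    exact (IsLocalRing.mem_maximalIdeal _).2 hna
  filter_upwards [exists_lift U V f hua] with i ⟨g, hg⟩
  letI := g.toRingHom.toAlgebra
  haveI : IsScalarTower R C (V i) := IsScalarTower.of_algebraMap_eq fun r => (g.commutes r).symm
  let pi : PrimeSpectrum C := PrimeSpectrum.comap g.toRingHom ⟨maximalIdeal (V i), inferInstance⟩
  have hpi : pi ∈ Set.range (PrimeSpectrum.comap (algebraMap C A)) := by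
    refine hasub fun hmem => ?_
    exact (IsLocalRing.mem_maximalIdeal _).1 hmem hg
  rw [← PrimeSpectrum.nontrivial_iff_mem_rangeComap] at hpi
  let k := (maximalIdeal (V i)).ResidueField
  let φ : pi.asIdeal.ResidueField →ₐ[C] k :=
    Ideal.ResidueField.mapₐ pi.asIdeal (maximalIdeal (V i)) (Algebra.ofId C (V i)) rfl
  letI : Algebra pi.asIdeal.ResidueField k := φ.toRingHom.toAlgebra
  haveI : IsScalarTower C pi.asIdeal.ResidueField k :=
    IsScalarTower.of_algebraMap_eq fun c => (φ.commutes c).symm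
  haveI : Nontrivial (k ⊗[C] A) :=
    haveI : Nontrivial (k ⊗[pi.asIdeal.ResidueField] (pi.asIdeal.ResidueField ⊗[C] A)) :=
      inferInstance
    (TensorProduct.AlgebraTensorModule.cancelBaseChange C pi.asIdeal.ResidueField k k A).symm.toEquiv.nontrivial
  haveI : Nontrivial (k ⊗[V i] (V i ⊗[C] A)) :=
    (TensorProduct.AlgebraTensorModule.cancelBaseChange C (V i) k k A).toEquiv.nontrivial
  obtain ⟨⟨P', hP'⟩, hP'm⟩ :=
    (PrimeSpectrum.nontrivial_iff_mem_rangeComap (S := V i ⊗[C] A)
      ⟨maximalIdeal (V i), inferInstance⟩).1 inferInstance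
  haveI : P'.LiesOver (maximalIdeal (V i)) := ⟨(congr(PrimeSpectrum.asIdeal $hP'm)).symm⟩
  obtain ⟨Q', hQ'P', hQ', hQ'over⟩ := Ideal.exists_ideal_le_liesOver_of_le (R := V i) P'
    (bot_le : (⊥ : Ideal (V i)) ≤ maximalIdeal (V i))
  have hcomp : (psi R B C (V i) J).toRingHom.comp (algebraMap (V i) (V i ⊗[R] B)) =
      algebraMap (V i) (V i ⊗[C] A) := RingHom.ext (psi R B C (V i) J).commutes
  refine ⟨P'.comap (psi R B C (V i) J).toRingHom, Q'.comap (psi R B C (V i) J).toRingHom,
    inferInstance, inferInstance, Ideal.comap_mono hQ'P', ?_, ?_⟩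
  · rw [Ideal.comap_comap, hcomp]
    exact (Ideal.over_def P' (maximalIdeal (V i))).symm
  · rw [Ideal.comap_comap, hcomp]
    exact (Ideal.over_def Q' (⊥ : Ideal (V i))).symm

end Ultra

end Groth.Agent.SubtrDesc12
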