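import Mathlib.AlgebraicGeometry.Morphisms.UniversallyOpen
import Groth.Agent.Lib.SubtrDesc12.Ultra
import Groth.Agent.Lib.ValSq12.Chain
import Groth.Agent.Lib.FlatH4.NoethApprox
import Groth.Prelude.Def_W4c2submetdescSubtr

/-!
# Valuative criteria for universally open and universally S-subtrusive morphisms
-/

set_option autoImplicit false
set_option linter.style.haveILetI false

universe u

open scoped TensorProduct
open IsLocalRing CategoryTheory CategoryTheory.Limits AlgebraicGeometry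

namespace Groth.Agent.SubtrDesc12

variable {V : Type u} [CommRing V] [IsDomain V]

/-- The generic point of the spectrum of a domain. -/
def gen (V : Type u) [CommRing V] [IsDomain V] : PrimeSpectrum V := ⟨⊥, Ideal.isPrime_bot⟩

theorem specializes_gen (p : Spec (CommRingCat.of V)) :
    (show Spec (CommRingCat.of V) from gen V) ⤳ p :=
  (PrimeSpectrum.le_iff_specializes (gen V) p).1
    (show (⊥ : Ideal V) ≤ p.asIdeal from bot_le)

/-- Every point generalises to a point over the generic point. -/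
def GenO {Z : Scheme.{u}} (h : Z ⟶ Spec (CommRingCat.of V)) : Prop :=
  ∀ z : Z, ∃ z' : Z, z' ⤳ z ∧ h z' = gen V

/-- Some point over the closed point generalises to a point over the generic point. -/
def GenS [IsLocalRing V] {Z : Scheme.{u}} (h : Z ⟶ Spec (CommRingCat.of V)) : Prop :=
  ∃ z z' : Z, z' ⤳ z ∧ h z = closedPoint V ∧ h z' = gen V

section Affine

variable (A : Type u) [CommRing A] [Algebra V A]

theorem genO_spec_iff :
    GenO (Spec.map (CommRingCat.ofHom (algebraMap V A))) ↔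
      ∀ (a : V) (t : A), a ≠ 0 → a • t = 0 → IsNilpotent t := by
  constructor
  · intro h a t ha hat
    rw [← mem_nilradical, nilradical_eq_sInf, Ideal.mem_sInf]
    intro P hP
    obtain ⟨q, hqp, hq⟩ := h (⟨P, hP⟩ : PrimeSpectrum A)
    have hle : q.asIdeal ≤ P := (PrimeSpectrum.le_iff_specializes q ⟨P, hP⟩).2 hqp
    have hq' : q.asIdeal.comap (algebraMap V A) = ⊥ := congrArg PrimeSpectrum.asIdeal hq
    refine hle ((q.isPrime.mem_or_mem (?_ : algebraMap V A a * t ∈ q.asIdeal)).resolve_left ?_)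
    · rw [← Algebra.smul_def, hat]
      exact zero_mem _
    · intro h'
      have : a ∈ q.asIdeal.comap (algebraMap V A) := h'
      rw [hq', Ideal.mem_bot] at this
      exact ha this
  · intro h p
    haveI hpp : p.asIdeal.IsPrime := p.isPrime
    let S : Submonoid A := p.asIdeal.primeCompl ⊔ (nonZeroDivisors V).map (algebraMap V A)
    have hdisj : Disjoint ((⊥ : Ideal A) : Set A) (S : Set A) := by
      rw [Set.disjoint_left]
      rintro x hx0 hxS
      obtain rfl : x = 0 := hx0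
      obtain ⟨s, hs, _, ⟨a, ha, rfl⟩, hsa⟩ := Submonoid.mem_sup.1 hxS
      have hnil := h a s (nonZeroDivisors.ne_zero ha) (by rw [Algebra.smul_def, mul_comm]; exact hsa)
      exact hs (nilradical_le_prime p.asIdeal (mem_nilradical.2 hnil))
    obtain ⟨Q, hQ, -, hQS⟩ := Ideal.exists_le_prime_disjoint ⊥ S hdisj
    refine ⟨(⟨Q, hQ⟩ : PrimeSpectrum A), (PrimeSpectrum.le_iff_specializes ⟨Q, hQ⟩ p).1 ?_, ?_⟩
    · intro x hx
      by_contra hxp
      exact Set.disjoint_left.1 hQS hx (Submonoid.mem_sup_left hxp)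
    · refine PrimeSpectrum.ext (eq_bot_iff.2 fun a ha => ?_)
      by_contra ha0
      exact Set.disjoint_left.1 hQS ha
        (Submonoid.mem_sup_right ⟨a, mem_nonZeroDivisors_of_ne_zero ha0, rfl⟩)

theorem genS_spec_iff [IsLocalRing V] :
    GenS (Spec.map (CommRingCat.ofHom (algebraMap V A))) ↔
      ∃ P Q : Ideal A, P.IsPrime ∧ Q.IsPrime ∧ Q ≤ P ∧
        P.comap (algebraMap V A) = maximalIdeal V ∧ Q.comap (algebraMap V A) = ⊥ := by
  constructor
  · rintro ⟨z, z', h, hz, hz'⟩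
    exact ⟨z.asIdeal, z'.asIdeal, z.isPrime, z'.isPrime,
      (PrimeSpectrum.le_iff_specializes z' z).2 h, congrArg PrimeSpectrum.asIdeal hz,
      congrArg PrimeSpectrum.asIdeal hz'⟩
  · rintro ⟨P, Q, hP, hQ, hle, h1, h2⟩
    exact ⟨(⟨P, hP⟩ : PrimeSpectrum A), (⟨Q, hQ⟩ : PrimeSpectrum A),
      (PrimeSpectrum.le_iff_specializes ⟨Q, hQ⟩ ⟨P, hP⟩).1 hle, PrimeSpectrum.ext h1,
      PrimeSpectrum.ext h2⟩

end Affine

section Cover

variable {Z : Scheme.{u}} {L : Type*} {Zl : L → Scheme.{u}} (j : ∀ l, Zl l ⟶ Z)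
  [∀ l, IsOpenImmersion (j l)] (hj : ∀ z : Z, ∃ l, z ∈ Set.range (j l))
  (h : Z ⟶ Spec (CommRingCat.of V))

include hj

theorem genO_cover_iff : GenO h ↔ ∀ l, GenO (j l ≫ h) := by
  constructor
  · intro H l w
    obtain ⟨z', hz', hgen⟩ := H (j l w)
    obtain ⟨w', rfl⟩ := (j l).isOpenEmbedding.isOpen_range.stableUnderGeneralization hz'
      (Set.mem_range_self w)
    exact ⟨w', (j l).isOpenEmbedding.isInducing.specializes_iff.1 hz',
      by rw [Scheme.Hom.comp_apply]; exact hgen⟩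
  · intro H z
    obtain ⟨l, w, rfl⟩ := hj z
    obtain ⟨w', hw', hgen⟩ := H l w
    exact ⟨j l w', hw'.map (j l).continuous, by rw [← Scheme.Hom.comp_apply]; exact hgen⟩

theorem genS_cover_iff [IsLocalRing V] : GenS h ↔ ∃ l, GenS (j l ≫ h) := by
  constructor
  · rintro ⟨z, z', hz', hc, hg⟩
    obtain ⟨l, w, rfl⟩ := hj z
    obtain ⟨w', rfl⟩ := (j l).isOpenEmbedding.isOpen_range.stableUnderGeneralization hz'
      (Set.mem_range_self w)
    exact ⟨l, w, w', (j l).isOpenEmbedding.isInducing.specializes_iff.1 hz',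
      by rw [Scheme.Hom.comp_apply]; exact hc, by rw [Scheme.Hom.comp_apply]; exact hg⟩
  · rintro ⟨l, w, w', hw, hc, hg⟩
    exact ⟨j l w, j l w', hw.map (j l).continuous, by rw [← Scheme.Hom.comp_apply]; exact hc,
      by rw [← Scheme.Hom.comp_apply]; exact hg⟩

end Cover

theorem genO_iso_iff {Z Z' : Scheme.{u}} (e : Z ≅ Z') {h : Z ⟶ Spec (CommRingCat.of V)}
    {h' : Z' ⟶ Spec (CommRingCat.of V)} (he : e.hom ≫ h' = h) : GenO h ↔ GenO h' := by
  rw [genO_cover_iff (L := PUnit.{1}) (fun _ => e.hom) (fun z => ⟨⟨⟩, e.inv z, by simp [← Scheme.Hom.comp_apply]⟩) h', he]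
  simp

theorem genS_iso_iff [IsLocalRing V] {Z Z' : Scheme.{u}} (e : Z ≅ Z')
    {h : Z ⟶ Spec (CommRingCat.of V)} {h' : Z' ⟶ Spec (CommRingCat.of V)} (he : e.hom ≫ h' = h) :
    GenS h ↔ GenS h' := by
  rw [genS_cover_iff (L := PUnit.{1}) (fun _ => e.hom) (fun z => ⟨⟨⟩, e.inv z, by simp [← Scheme.Hom.comp_apply]⟩) h', he]
  simp

/-- Two pullbacks of the same cospan satisfy the condition simultaneously. -/
theorem genO_pullback_iff {X Y Z Z' : Scheme.{u}} {f : X ⟶ Y} {x : Spec (CommRingCat.of V) ⟶ Y}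
    {a : Z ⟶ X} {b : Z ⟶ Spec (CommRingCat.of V)} {a' : Z' ⟶ X} {b' : Z' ⟶ Spec (CommRingCat.of V)}
    (h : IsPullback a b f x) (h' : IsPullback a' b' f x) : GenO b ↔ GenO b' :=
  genO_iso_iff (h.isoIsPullback _ _ h') (h.isoIsPullback_hom_snd _ _ h')

theorem genS_pullback_iff [IsLocalRing V] {X Y Z Z' : Scheme.{u}} {f : X ⟶ Y}
    {x : Spec (CommRingCat.of V) ⟶ Y} {a : Z ⟶ X} {b : Z ⟶ Spec (CommRingCat.of V)} {a' : Z' ⟶ X}
    {b' : Z' ⟶ Spec (CommRingCat.of V)}
    (h : IsPullback a b f x) (h' : IsPullback a' b' f x) : GenS b ↔ GenS b' :=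
  genS_iso_iff (h.isoIsPullback _ _ h') (h.isoIsPullback_hom_snd _ _ h')

section Criteria

variable {X Y : Scheme.{u}} {f : X ⟶ Y}

theorem genO_spec_of_isOpenMap (A : CommRingCat.{u}) (φ : CommRingCat.of V ⟶ A)
    (ho : IsOpenMap (Spec.map φ)) : GenO (Spec.map φ) := by
  letI := φ.hom.toAlgebra
  refine (genO_spec_iff A).2 fun a t ha hat => ?_
  by_contra hnil
  rw [← mem_nilradical, nilradical_eq_sInf, Ideal.mem_sInf] at hnil
  push Not at hnil
  obtain ⟨P, hP, htP⟩ := hnil
  let U : Set (PrimeSpectrum A) := PrimeSpectrum.basicOpen t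
  obtain ⟨q, hqU, hq⟩ := (specializes_gen (Spec.map φ (⟨P, hP⟩ : PrimeSpectrum A))).mem_open
    (ho U (PrimeSpectrum.basicOpen t).isOpen) ⟨⟨P, hP⟩, htP, rfl⟩
  have hq' : q.asIdeal.comap φ.hom = ⊥ := congrArg PrimeSpectrum.asIdeal hq
  refine hqU ((q.isPrime.mem_or_mem (?_ : φ.hom a * t ∈ q.asIdeal)).resolve_left ?_)
  · rw [show φ.hom a * t = 0 from (Algebra.smul_def a t).symm.trans hat]
    exact zero_mem _
  · intro h'
    have : a ∈ q.asIdeal.comap φ.hom := h'
    rw [hq', Ideal.mem_bot] at this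
    exact ha this

theorem genO_of_isOpenMap {Z : Scheme.{u}} (h : Z ⟶ Spec (CommRingCat.of V))
    (ho : IsOpenMap h) : GenO h := by
  refine (genO_cover_iff Z.affineCover.f (fun z => ⟨_, Z.affineCover.covers z⟩) h).2 fun l => ?_
  have ho' : IsOpenMap (Z.affineCover.f l ≫ h) := by
    rw [show ⇑(Z.affineCover.f l ≫ h) = ⇑h ∘ ⇑(Z.affineCover.f l) from
      funext fun z => Scheme.Hom.comp_apply _ _ z]
    exact ho.comp (Z.affineCover.f l).isOpenEmbedding.isOpenMap
  obtain ⟨φ, hφ⟩ := Spec.map_surjective (Z.affineCover.f l ≫ h)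
  have hG := genO_spec_of_isOpenMap _ φ (by rw [hφ]; exact ho')
  rwa [hφ] at hG

/-- Universally open morphisms have the lifting property over every valuation ring. -/
theorem genO_of_universallyOpen [UniversallyOpen f] [ValuationRing V] {Z : Scheme.{u}}
    {a : Z ⟶ X} {b : Z ⟶ Spec (CommRingCat.of V)} {x : Spec (CommRingCat.of V) ⟶ Y}
    (h : IsPullback a b f x) : GenO b :=
  haveI : UniversallyOpen b := MorphismProperty.of_isPullback (P := @UniversallyOpen) h inferInstance
  genO_of_isOpenMap b b.isOpenMap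

theorem genS_of_univSSubtrusive (hf : Subtr.UnivSSubtrusive f) [ValuationRing V] {Z : Scheme.{u}}
    {a : Z ⟶ X} {b : Z ⟶ Spec (CommRingCat.of V)} {x : Spec (CommRingCat.of V) ⟶ Y}
    (h : IsPullback a b f x) : GenS b := by
  obtain ⟨z, z', h1, h2, h3⟩ := hf a x b h.flip (specializes_gen (closedPoint V))
  exact ⟨z, z', h1, h2, h3⟩

/-- Valuative criterion for universal openness. -/
theorem universallyOpen_of_genO [LocallyOfFinitePresentation f]
    (H : ∀ (W : Type u) [CommRing W] [IsDomain W] [ValuationRing W]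
      (x : Spec (CommRingCat.of W) ⟶ Y), GenO (pullback.snd f x)) : UniversallyOpen f := by
  refine ⟨fun X' Y' i₁ i₂ f' hpb => ?_⟩
  haveI : LocallyOfFinitePresentation f' :=
    MorphismProperty.of_isPullback (P := @LocallyOfFinitePresentation) hpb.flip inferInstance
  refine isOpenMap_of_generalizingMap f' fun x y hy => ?_
  obtain ⟨W, _, _, _, g, hg, hgc⟩ := ValSq12.exists_valRing_pair (P := Y') hy
  have hbig := (IsPullback.of_hasPullback f' g).paste_horiz hpb.flip
  have hG := (genO_pullback_iff (IsPullback.of_hasPullback f (g ≫ i₂)) hbig).1 (H W (g ≫ i₂))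
  obtain ⟨z, hz1, hz2⟩ := Scheme.Pullback.exists_preimage_pullback (f := f') (g := g) x (closedPoint W) hgc.symm
  obtain ⟨z', hz', hgen⟩ := hG z
  refine ⟨pullback.fst f' g z', ?_, ?_⟩
  · rw [← hz1]
    exact hz'.map (pullback.fst f' g).continuous
  · rw [← Scheme.Hom.comp_apply, pullback.condition, Scheme.Hom.comp_apply, hgen]
    exact hg

/-- Valuative criterion for universal S-subtrusiveness. -/
theorem univSSubtrusive_of_genS
    (H : ∀ (W : Type u) [CommRing W] [IsDomain W] [ValuationRing W]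
      (x : Spec (CommRingCat.of W) ⟶ Y), GenS (pullback.snd f x)) : Subtr.UnivSSubtrusive f := by
  intro X' Y' i₁ i₂ f' hpb y y' hy
  obtain ⟨W, _, _, _, g, hg, hgc⟩ := ValSq12.exists_valRing_pair (P := Y') hy
  have hbig := (IsPullback.of_hasPullback f' g).paste_horiz hpb.flip
  obtain ⟨z, z', hz, hc, hgen⟩ :=
    (genS_pullback_iff (IsPullback.of_hasPullback f (g ≫ i₂)) hbig).1 (H W (g ≫ i₂))
  refine ⟨pullback.fst f' g z, pullback.fst f' g z', hz.map (pullback.fst f' g).continuous, ?_, ?_⟩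
  · rw [← Scheme.Hom.comp_apply, pullback.condition, Scheme.Hom.comp_apply, hc]
    exact hgc
  · rw [← Scheme.Hom.comp_apply, pullback.condition, Scheme.Hom.comp_apply, hgen]
    exact hg

end Criteria

end Groth.Agent.SubtrDesc12
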